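import Mathlib
import Cfsg.Agent.Lib.Helper55.OEll.Defs

/-!
# Project OELL (S5993): package [PELTE]
-/

set_option autoImplicit false
open scoped MatrixGroups
open Matrix

namespace Cfsg.Agent.Lib.Helper45.OEll

open Cfsg.Agent.Lib.Helper23.OHyp Cfsg.Agent.Lib.Helper55.OEll

universe u

section

variable {F : Type u} [Field F] {d : ℕ}

theorem oell_mat_eq_zero {n : Type} [Fintype n] [DecidableEq n] (A : Matrix n n F)
    (h : ∀ v, A *ᵥ v = 0) : A = 0 := by
  apply Matrix.toLin'.injective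
  apply LinearMap.ext
  intro v
  rw [Matrix.toLin'_apply, h, map_zero, LinearMap.zero_apply]

/-- the sign of the pairing `i ↔ rev i` -/
def oellSg (F : Type u) [Field F] {d : ℕ} (i : Fin d) : F :=
  if (i : ℕ) < ((Fin.rev i : Fin d) : ℕ) then 1
  else if ((Fin.rev i : Fin d) : ℕ) < (i : ℕ) then -1 else 0

theorem oellSg_rev (i : Fin d) : oellSg F (Fin.rev i) = - oellSg F i := by
  unfold oellSg
  rw [Fin.rev_rev]
  split_ifs <;> first | omega | simp

theorem oellSg_ne_zero (hd : Even d) (i : Fin d) : oellSg F i ≠ 0 := by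
  obtain ⟨k, hk⟩ := hd
  have hi := i.isLt
  unfold oellSg
  rw [Fin.val_rev]
  split_ifs with h1 h2
  · exact one_ne_zero
  · exact neg_ne_zero.2 one_ne_zero
  · omega

theorem oellSg_mul_self (hd : Even d) (i : Fin d) : oellSg F i * oellSg F i = 1 := by
  obtain ⟨k, hk⟩ := hd
  have hi := i.isLt
  unfold oellSg
  rw [Fin.val_rev]
  split_ifs with h1 h2
  · simp
  · simp
  · omega

/-- the nilpotent map `y ↦ x` for even `d` -/
def oellNE (F : Type u) [Field F] (d : ℕ) :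
    (Unit ⊕ (Fin d ⊕ Fin d) → F) →ₗ[F] (Unit ⊕ (Fin d ⊕ Fin d) → F) where
  toFun v := fun a => match a with
    | Sum.inl _ => 0
    | Sum.inr (Sum.inl i) => oellSg F i * v (Sum.inr (Sum.inr (Fin.rev i)))
    | Sum.inr (Sum.inr _) => 0
  map_add' v w := by
    funext a
    rcases a with _ | i | j <;> simp [mul_add]
  map_smul' c v := by
    funext a
    rcases a with _ | i | j <;> simp [mul_left_comm]

theorem oellNE_apply_inl (v : Unit ⊕ (Fin d ⊕ Fin d) → F) (a : Unit) :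
    oellNE F d v (Sum.inl a) = 0 := rfl

theorem oellNE_apply_x (v : Unit ⊕ (Fin d ⊕ Fin d) → F) (i : Fin d) :
    oellNE F d v (Sum.inr (Sum.inl i)) = oellSg F i * v (Sum.inr (Sum.inr (Fin.rev i))) := rfl

theorem oellNE_apply_y (v : Unit ⊕ (Fin d ⊕ Fin d) → F) (j : Fin d) :
    oellNE F d v (Sum.inr (Sum.inr j)) = 0 := rfl

theorem oell_sum_zero (h2 : (2 : F) ≠ 0) (y : Fin d → F) :
    ∑ i : Fin d, oellSg F i * y (Fin.rev i) * y i = 0 := by
  have h1 : ∑ i : Fin d, oellSg F i * y (Fin.rev i) * y i =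
      ∑ i : Fin d, oellSg F (Fin.rev i) * y (Fin.rev (Fin.rev i)) * y (Fin.rev i) :=
    (Equiv.sum_comp Fin.revPerm (fun i => oellSg F i * y (Fin.rev i) * y i)).symm
  simp only [Fin.rev_rev, oellSg_rev] at h1
  have h3 : ∑ i : Fin d, oellSg F i * y (Fin.rev i) * y i =
      - ∑ i : Fin d, oellSg F i * y (Fin.rev i) * y i := by
    conv_lhs => rw [h1]
    rw [← Finset.sum_neg_distrib]
    apply Finset.sum_congr rfl
    intro i _
    ring
  have h4 : (2 : F) * ∑ i : Fin d, oellSg F i * y (Fin.rev i) * y i = 0 := by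
    linear_combination h3
  exact (mul_eq_zero.1 h4).resolve_left h2

end

theorem pkgPEltE : PkgPEltE.{u} := by
  intro F _ _ p _ _ hp2 d hd1 hde
  have hpP : p.Prime := Fact.out
  have h2 : (2 : F) ≠ 0 := by
    intro h
    have h' : ((2 : ℕ) : F) = 0 := by exact_mod_cast h
    rw [CharP.cast_eq_zero_iff F p] at h'
    exact hp2 ((Nat.prime_dvd_prime_iff_eq hpP Nat.prime_two).1 h')
  obtain ⟨N, hN⟩ : ∃ N : Matrix (Unit ⊕ (Fin d ⊕ Fin d)) (Unit ⊕ (Fin d ⊕ Fin d)) F,
      N = LinearMap.toMatrix' (oellNE F d) := ⟨_, rfl⟩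
  have hNv : ∀ v, N *ᵥ v = oellNE F d v := by
    intro v
    rw [hN, ← Matrix.toLin'_apply, Matrix.toLin'_toMatrix']
  have hNN : N * N = 0 := by
    apply oell_mat_eq_zero
    intro v
    rw [← Matrix.mulVec_mulVec, hNv, hNv]
    funext a
    rcases a with _ | i | j
    · rfl
    · rw [oellNE_apply_x, oellNE_apply_y, mul_zero]
      rfl
    · rfl
  have hk : ∀ k : ℕ, (1 + N) ^ k = 1 + k • N := by
    intro k
    induction k with
    | zero => simp
    | succ k ih =>
      rw [pow_succ, ih, mul_add, mul_one, add_mul, one_mul, smul_mul_assoc, hNN, smul_zero,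
        add_zero, succ_nsmul]
      abel
  have hpow : (1 + N) ^ p = 1 := by
    rw [hk, ← Nat.cast_smul_eq_nsmul F, CharP.cast_eq_zero, zero_smul, add_zero]
  obtain ⟨x, hxv⟩ : ∃ x : GL (Unit ⊕ (Fin d ⊕ Fin d)) F,
      (x : Matrix (Unit ⊕ (Fin d ⊕ Fin d)) (Unit ⊕ (Fin d ⊕ Fin d)) F) = 1 + N :=
    ⟨Units.ofPowEqOne (1 + N) p hpow hpP.ne_zero, rfl⟩
  have hxmul : ∀ v, (x : Matrix (Unit ⊕ (Fin d ⊕ Fin d)) (Unit ⊕ (Fin d ⊕ Fin d)) F) *ᵥ v =
      v + oellNE F d v := by
    intro v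
    rw [hxv, Matrix.add_mulVec, Matrix.one_mulVec, hNv]
  refine ⟨x, ?_, ?_, ?_, ?_⟩
  · intro u _
    show Cfsg.quadFormOdd d F
      ((x : Matrix (Unit ⊕ (Fin d ⊕ Fin d)) (Unit ⊕ (Fin d ⊕ Fin d)) F) *ᵥ u) =
      Cfsg.quadFormOdd d F u
    rw [hxmul]
    unfold Cfsg.quadFormOdd
    simp only [Pi.add_apply, oellNE_apply_inl, oellNE_apply_x, oellNE_apply_y, add_zero, add_mul,
      Finset.sum_add_distrib]
    rw [oell_sum_zero h2 (fun i => u (Sum.inr (Sum.inr i))), add_zero]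
  · apply orderOf_eq_prime
    · apply Units.ext
      rw [Units.val_pow_eq_pow_val, hxv, hpow]
      rfl
    · intro h
      have h1 : (x : Matrix (Unit ⊕ (Fin d ⊕ Fin d)) (Unit ⊕ (Fin d ⊕ Fin d)) F) = 1 := by
        rw [h]
        rfl
      have hN0 : N = 0 := by
        rw [hxv] at h1
        simpa using h1
      have h3 := hNv (Pi.single (Sum.inr (Sum.inr (Fin.rev (⟨0, hd1⟩ : Fin d)))) 1)
      rw [hN0, Matrix.zero_mulVec] at h3
      have h4 := congrFun h3 (Sum.inr (Sum.inl (⟨0, hd1⟩ : Fin d)))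
      rw [oellNE_apply_x, Pi.single_eq_same, mul_one] at h4
      exact oellSg_ne_zero hde _ h4.symm
  · rw [hxv, add_sub_cancel_left, hNN]
  · refine ⟨Pi.single (Sum.inl ()) 1, ?_⟩
    intro v hv
    unfold fixSp at hv
    rw [LinearMap.mem_ker, LinearMap.sub_apply, Matrix.toLin'_apply, hxmul,
      Module.End.one_apply, add_sub_cancel_left] at hv
    have hy : ∀ j : Fin d, v (Sum.inr (Sum.inr j)) = 0 := by
      intro j
      have h5 := congrFun hv (Sum.inr (Sum.inl (Fin.rev j)))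
      rw [oellNE_apply_x, Fin.rev_rev] at h5
      exact (mul_eq_zero.1 h5).resolve_left (oellSg_ne_zero hde _)
    obtain ⟨w, hw⟩ : ∃ w : Unit ⊕ (Fin d ⊕ Fin d) → F,
        ∀ j : Fin d, w (Sum.inr (Sum.inr j)) =
          oellSg F (Fin.rev j) * v (Sum.inr (Sum.inl (Fin.rev j))) :=
      ⟨fun a => match a with
        | Sum.inl _ => 0
        | Sum.inr (Sum.inl _) => 0
        | Sum.inr (Sum.inr j) => oellSg F (Fin.rev j) * v (Sum.inr (Sum.inl (Fin.rev j))),
        fun _ => rfl⟩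
    unfold movSp
    rw [Submodule.mem_sup]
    refine ⟨oellNE F d w, ⟨w, ?_⟩, v (Sum.inl ()) • Pi.single (Sum.inl ()) 1,
      Submodule.mem_span_singleton.2 ⟨_, rfl⟩, ?_⟩
    · rw [LinearMap.sub_apply, Matrix.toLin'_apply, hxmul, Module.End.one_apply,
        add_sub_cancel_left]
    · funext a
      rcases a with u | i | j
      · simp [oellNE_apply_inl]
      · simp only [Pi.add_apply, oellNE_apply_x, hw, Fin.rev_rev, Pi.smul_apply, smul_eq_mul]
        rw [← mul_assoc, oellSg_mul_self hde]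
        simp
      · simp [oellNE_apply_y, hy]

end Cfsg.Agent.Lib.Helper45.OEll
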