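import Mathlib
import Cfsg.Agent.Lib.Helper55.OEll.Defs
import Cfsg.Agent.Lib.Helper45.OEll.PEltE

/-!
# Project OELL (S5993): package [PELTO]
-/

set_option autoImplicit false
open scoped MatrixGroups
open Matrix

namespace Cfsg.Agent.Lib.Helper45.OEll

open Cfsg.Agent.Lib.Helper23.OHyp Cfsg.Agent.Lib.Helper55.OEll

universe u

section

variable {F : Type u} [Field F] {d : ℕ}

/-- the nilpotent map for odd `d` (`c` the middle index) -/
def oellNO (F : Type u) [Field F] (d : ℕ) (c : Fin d) :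
    (Unit ⊕ (Fin d ⊕ Fin d) → F) →ₗ[F] (Unit ⊕ (Fin d ⊕ Fin d) → F) where
  toFun v := fun a => match a with
    | Sum.inl _ => v (Sum.inr (Sum.inr c))
    | Sum.inr (Sum.inl i) => oellSg F i * v (Sum.inr (Sum.inr (Fin.rev i))) +
        (if i = c then -2 * v (Sum.inl ()) - v (Sum.inr (Sum.inr c)) else 0)
    | Sum.inr (Sum.inr _) => 0
  map_add' v w := by
    funext a
    rcases a with _ | i | j
    · simp
    · by_cases h : i = c
      · simp [h]
        ring
      · simp [h, mul_add]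
    · simp
  map_smul' r v := by
    funext a
    rcases a with _ | i | j
    · simp
    · by_cases h : i = c
      · simp [h]
        ring
      · simp [h, mul_left_comm]
    · simp

theorem oellNO_apply_inl (c : Fin d) (v : Unit ⊕ (Fin d ⊕ Fin d) → F) (a : Unit) :
    oellNO F d c v (Sum.inl a) = v (Sum.inr (Sum.inr c)) := rfl

theorem oellNO_apply_x (c : Fin d) (v : Unit ⊕ (Fin d ⊕ Fin d) → F) (i : Fin d) :
    oellNO F d c v (Sum.inr (Sum.inl i)) = oellSg F i * v (Sum.inr (Sum.inr (Fin.rev i))) +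
        (if i = c then -2 * v (Sum.inl ()) - v (Sum.inr (Sum.inr c)) else 0) := rfl

theorem oellNO_apply_y (c : Fin d) (v : Unit ⊕ (Fin d ⊕ Fin d) → F) (j : Fin d) :
    oellNO F d c v (Sum.inr (Sum.inr j)) = 0 := rfl

end

theorem pkgPEltO : PkgPEltO.{u} := by
  intro F _ _ p _ _ hp2 d hdo
  have hpP : p.Prime := Fact.out
  have hp3 : 3 ≤ p := by
    have := hpP.two_le
    omega
  have h2 : (2 : F) ≠ 0 := by
    intro h
    have h' : ((2 : ℕ) : F) = 0 := by exact_mod_cast h
    rw [CharP.cast_eq_zero_iff F p] at h'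
    exact hp2 ((Nat.prime_dvd_prime_iff_eq hpP Nat.prime_two).1 h')
  obtain ⟨k, hk⟩ := hdo
  obtain ⟨c, hc⟩ : ∃ c : Fin d, (c : ℕ) = k := ⟨⟨k, by omega⟩, rfl⟩
  have hsgc : oellSg F c = 0 := by
    unfold oellSg
    rw [Fin.val_rev]
    split_ifs with h1 h3
    · omega
    · omega
    · rfl
  have hsgne : ∀ i : Fin d, i ≠ c → oellSg F i ≠ 0 := by
    intro i hi
    have hi' : (i : ℕ) ≠ k := fun h => hi (Fin.ext (h.trans hc.symm))
    have hil := i.isLt
    unfold oellSg
    rw [Fin.val_rev]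
    split_ifs with h1 h3
    · exact one_ne_zero
    · exact neg_ne_zero.2 one_ne_zero
    · omega
  have hrevc : Fin.rev c = c := by
    apply Fin.ext
    rw [Fin.val_rev]
    omega
  obtain ⟨N, hN⟩ : ∃ N : Matrix (Unit ⊕ (Fin d ⊕ Fin d)) (Unit ⊕ (Fin d ⊕ Fin d)) F,
      N = LinearMap.toMatrix' (oellNO F d c) := ⟨_, rfl⟩
  have hNv : ∀ v, N *ᵥ v = oellNO F d c v := by
    intro v
    rw [hN, ← Matrix.toLin'_apply, Matrix.toLin'_toMatrix']
  -- N (N v)
  have hNNv : ∀ v : Unit ⊕ (Fin d ⊕ Fin d) → F, oellNO F d c (oellNO F d c v) =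
      (-2 * v (Sum.inr (Sum.inr c))) • Pi.single (Sum.inr (Sum.inl c)) 1 := by
    intro v
    funext a
    rcases a with u | i | j
    · rw [oellNO_apply_inl, oellNO_apply_y]
      simp
    · rw [oellNO_apply_x, oellNO_apply_y, oellNO_apply_inl, oellNO_apply_y]
      by_cases h : i = c
      · subst h
        simp
      · have h' : (Sum.inr (Sum.inl i) : Unit ⊕ (Fin d ⊕ Fin d)) ≠ Sum.inr (Sum.inl c) := by
          intro h''
          exact h (Sum.inl.inj (Sum.inr.inj h''))
        simp [h, h']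
    · rw [oellNO_apply_y]
      simp
  have hN3 : N ^ 3 = 0 := by
    apply oell_mat_eq_zero
    intro v
    rw [pow_succ, pow_succ, pow_one, ← Matrix.mulVec_mulVec, ← Matrix.mulVec_mulVec, hNv, hNv,
      hNv, hNNv]
    rw [oellNO_apply_y]
    simp
  have hpow : (1 + N) ^ p = 1 := by
    rw [add_pow_char_of_commute p (Commute.one_left N), one_pow, pow_eq_zero_of_le hp3 hN3,
      add_zero]
  obtain ⟨x, hxv⟩ : ∃ x : GL (Unit ⊕ (Fin d ⊕ Fin d)) F,
      (x : Matrix (Unit ⊕ (Fin d ⊕ Fin d)) (Unit ⊕ (Fin d ⊕ Fin d)) F) = 1 + N :=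
    ⟨Units.ofPowEqOne (1 + N) p hpow hpP.ne_zero, rfl⟩
  have hxmul : ∀ v, (x : Matrix (Unit ⊕ (Fin d ⊕ Fin d)) (Unit ⊕ (Fin d ⊕ Fin d)) F) *ᵥ v =
      v + oellNO F d c v := by
    intro v
    rw [hxv, Matrix.add_mulVec, Matrix.one_mulVec, hNv]
  refine ⟨x, ?_, ?_, ?_, ?_⟩
  · intro u _
    show Cfsg.quadFormOdd d F
      ((x : Matrix (Unit ⊕ (Fin d ⊕ Fin d)) (Unit ⊕ (Fin d ⊕ Fin d)) F) *ᵥ u) =
      Cfsg.quadFormOdd d F u
    rw [hxmul]
    unfold Cfsg.quadFormOdd
    simp only [Pi.add_apply, oellNO_apply_inl, oellNO_apply_x, oellNO_apply_y, add_zero, add_mul,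
      Finset.sum_add_distrib, ite_mul, zero_mul, Finset.sum_ite_eq', Finset.mem_univ, if_true]
    rw [oell_sum_zero h2 (fun i => u (Sum.inr (Sum.inr i)))]
    ring
  · apply orderOf_eq_prime
    · apply Units.ext
      rw [Units.val_pow_eq_pow_val, hxv, hpow]
      rfl
    · intro h
      have h1 : (x : Matrix (Unit ⊕ (Fin d ⊕ Fin d)) (Unit ⊕ (Fin d ⊕ Fin d)) F) = 1 := by
        rw [h]
        rfl
      have hN0 : N = 0 := by
        rw [hxv] at h1
        simpa using h1
      have h3 := hNv (Pi.single (Sum.inr (Sum.inr c)) 1)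
      rw [hN0, Matrix.zero_mulVec] at h3
      have h4 := congrFun h3 (Sum.inl ())
      rw [oellNO_apply_inl, Pi.single_eq_same] at h4
      exact one_ne_zero h4.symm
  · intro v hv
    rw [hxmul] at hv
    have hv0 : oellNO F d c v = 0 := by
      have := congrArg (fun z => z - v) hv
      simpa using this
    have hyc : v (Sum.inr (Sum.inr c)) = 0 := by
      have h5 := congrFun hv0 (Sum.inl ())
      rw [oellNO_apply_inl] at h5
      exact h5
    have hy : ∀ j : Fin d, v (Sum.inr (Sum.inr j)) = 0 := by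
      intro j
      by_cases hj : j = c
      · rw [hj]
        exact hyc
      · have hrj : Fin.rev j ≠ c := by
          intro h
          apply hj
          rw [← Fin.rev_rev j, h, hrevc]
        have h5 := congrFun hv0 (Sum.inr (Sum.inl (Fin.rev j)))
        rw [oellNO_apply_x, Fin.rev_rev, if_neg hrj, add_zero] at h5
        exact (mul_eq_zero.1 h5).resolve_left (hsgne _ hrj)
    have ht : v (Sum.inl ()) = 0 := by
      have h5 := congrFun hv0 (Sum.inr (Sum.inl c))
      rw [oellNO_apply_x, hsgc, zero_mul, zero_add, if_pos rfl, hyc, sub_zero] at h5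
      have h6 : (2 : F) * v (Sum.inl ()) = 0 := by
        have h7 : (-2 : F) * v (Sum.inl ()) = 0 := h5
        linear_combination -h7
      exact (mul_eq_zero.1 h6).resolve_left h2
    unfold Cfsg.quadFormOdd
    rw [ht]
    simp [hy]
  · refine ⟨Pi.single (Sum.inr (Sum.inl c)) 1, ?_⟩
    intro v
    rw [hxv, add_sub_cancel_left, ← Matrix.mulVec_mulVec, hNv, hNv, hNNv]
    exact Submodule.mem_span_singleton.2 ⟨_, rfl⟩

end Cfsg.Agent.Lib.Helper45.OEll
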